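import Mathlib
import Cfsg.Prelude.Def_ChevG2
import Cfsg.Prelude.Def_ChevB2
import Cfsg.Prelude.Def_ChevD4
import Cfsg.Prelude.Def_ChevF4
import Cfsg.Prelude.Def_ChevE6
import Cfsg.Prelude.Def_ChevE7
import Cfsg.Prelude.Def_ChevE8
import Cfsg.Agent.Lib.Helper5.StPres.M3Def

set_option autoImplicit false

namespace Cfsg.Agent.Lib.Helper5.ChevSym

open Cfsg Cfsg.Lie

set_option maxRecDepth 1000000 in
theorem chkM3_G2 : checkM3All chevG2 [(2, 10), (0, 8)] = true := by
  decide +kernel

set_option maxRecDepth 1000000 in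
theorem chkM3_B2 : checkM3All chevB2 [(1, 7), (0, 6)] = true := by
  decide +kernel

set_option maxRecDepth 1000000 in
theorem chkM3_D4 : checkM3All chevD4 [(6, 22), (1, 23), (3, 22), (2, 22)] = true := by
  decide +kernel

set_option maxRecDepth 1000000 in
theorem chkM3_F4 : checkM3All chevF4 [(7, 44), (3, 45), (0, 39), (1, 47)] = true := by
  decide +kernel

set_option maxRecDepth 1000000 in
theorem chkM3_E6 :
    checkM3All chevE6 [(16, 66), (1, 71), (5, 69), (2, 70), (3, 69), (4, 68)] = true := by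
  decide +kernel

set_option maxRecDepth 1000000 in
theorem chkM3_E7 :
    checkM3All chevE7 [(1, 125), (7, 122), (2, 124), (3, 123), (4, 122), (5, 121), (6, 120)]
      = true := by
  decide +kernel

set_option maxRecDepth 1000000 in
theorem chkM3_E8 :
    checkM3All chevE8
      [(14, 233), (7, 234), (6, 234), (5, 235), (4, 236), (3, 237), (2, 238), (1, 239)]
      = true := by
  decide +kernel

theorem chkM3_all (D : ChevalleyDatum)
    (hD : D ∈ [chevG2, chevB2, chevD4, chevF4, chevE6, chevE7, chevE8]) (i : ℕ)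
    (hi : i < D.rank) : ∃ γ δ : ℕ, checkM3 D i γ δ = true := by
  simp only [List.mem_cons, List.not_mem_nil, or_false] at hD
  rcases hD with rfl | rfl | rfl | rfl | rfl | rfl | rfl
  · exact checkM3All_spec _ _ chkM3_G2 i hi
  · exact checkM3All_spec _ _ chkM3_B2 i hi
  · exact checkM3All_spec _ _ chkM3_D4 i hi
  · exact checkM3All_spec _ _ chkM3_F4 i hi
  · exact checkM3All_spec _ _ chkM3_E6 i hi
  · exact checkM3All_spec _ _ chkM3_E7 i hi
  · exact checkM3All_spec _ _ chkM3_E8 i hi

end Cfsg.Agent.Lib.Helper5.ChevSym
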