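import Mathlib
import Cfsg.Prelude.Def_ChevE6
import Cfsg.Agent.Lib.Helper5.StPres.OppDef

set_option autoImplicit false

namespace Cfsg.Agent.Lib.Helper5.ChevSym

open Cfsg Cfsg.Lie

set_option maxRecDepth 1000000 in
theorem chkOpp_E6_0 : (List.range' 0 36).all (checkOppAt chevE6) = true := by
  decide +kernel

set_option maxRecDepth 1000000 in
theorem chkOpp_E6_36 : (List.range' 36 36).all (checkOppAt chevE6) = true := by
  decide +kernel

end Cfsg.Agent.Lib.Helper5.ChevSym
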