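import Mathlib
import Cfsg.Prelude.Def_ChevE7
import Cfsg.Agent.Lib.Helper5.StPres.OppDef

set_option autoImplicit false

namespace Cfsg.Agent.Lib.Helper5.ChevSym

open Cfsg Cfsg.Lie

set_option maxRecDepth 1000000 in
theorem chkOpp_E7_63 : (List.range' 63 21).all (checkOppAt chevE7) = true := by
  decide +kernel

set_option maxRecDepth 1000000 in
theorem chkOpp_E7_84 : (List.range' 84 21).all (checkOppAt chevE7) = true := by
  decide +kernel

set_option maxRecDepth 1000000 in
theorem chkOpp_E7_105 : (List.range' 105 21).all (checkOppAt chevE7) = true := by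
  decide +kernel

end Cfsg.Agent.Lib.Helper5.ChevSym
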