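import Mathlib
import Cfsg.Prelude.Def_ChevE8
import Cfsg.Agent.Lib.Helper5.StPres.OppDef

set_option autoImplicit false

namespace Cfsg.Agent.Lib.Helper5.ChevSym

open Cfsg Cfsg.Lie

set_option maxRecDepth 1000000 in
theorem chkOpp_E8_0 : (List.range' 0 5).all (checkOppAt chevE8) = true := by
  decide +kernel

set_option maxRecDepth 1000000 in
theorem chkOpp_E8_5 : (List.range' 5 5).all (checkOppAt chevE8) = true := by
  decide +kernel

set_option maxRecDepth 1000000 in
theorem chkOpp_E8_10 : (List.range' 10 5).all (checkOppAt chevE8) = true := by
  decide +kernel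

set_option maxRecDepth 1000000 in
theorem chkOpp_E8_15 : (List.range' 15 5).all (checkOppAt chevE8) = true := by
  decide +kernel

set_option maxRecDepth 1000000 in
theorem chkOpp_E8_20 : (List.range' 20 5).all (checkOppAt chevE8) = true := by
  decide +kernel

set_option maxRecDepth 1000000 in
theorem chkOpp_E8_25 : (List.range' 25 5).all (checkOppAt chevE8) = true := by
  decide +kernel

set_option maxRecDepth 1000000 in
theorem chkOpp_E8_30 : (List.range' 30 5).all (checkOppAt chevE8) = true := by
  decide +kernel

set_option maxRecDepth 1000000 in
theorem chkOpp_E8_35 : (List.range' 35 5).all (checkOppAt chevE8) = true := by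
  decide +kernel

set_option maxRecDepth 1000000 in
theorem chkOpp_E8_40 : (List.range' 40 5).all (checkOppAt chevE8) = true := by
  decide +kernel

set_option maxRecDepth 1000000 in
theorem chkOpp_E8_45 : (List.range' 45 5).all (checkOppAt chevE8) = true := by
  decide +kernel

set_option maxRecDepth 1000000 in
theorem chkOpp_E8_50 : (List.range' 50 5).all (checkOppAt chevE8) = true := by
  decide +kernel

set_option maxRecDepth 1000000 in
theorem chkOpp_E8_55 : (List.range' 55 5).all (checkOppAt chevE8) = true := by
  decide +kernel

end Cfsg.Agent.Lib.Helper5.ChevSym
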