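import Mathlib
import Cfsg.Prelude.Def_ChevE8
import Cfsg.Agent.Lib.Helper5.StPres.OppDef

set_option autoImplicit false

namespace Cfsg.Agent.Lib.Helper5.ChevSym

open Cfsg Cfsg.Lie

set_option maxRecDepth 1000000 in
theorem chkOpp_E8_60 : (List.range' 60 5).all (checkOppAt chevE8) = true := by
  decide +kernel

set_option maxRecDepth 1000000 in
theorem chkOpp_E8_65 : (List.range' 65 5).all (checkOppAt chevE8) = true := by
  decide +kernel

set_option maxRecDepth 1000000 in
theorem chkOpp_E8_70 : (List.range' 70 5).all (checkOppAt chevE8) = true := by
  decide +kernel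

set_option maxRecDepth 1000000 in
theorem chkOpp_E8_75 : (List.range' 75 5).all (checkOppAt chevE8) = true := by
  decide +kernel

set_option maxRecDepth 1000000 in
theorem chkOpp_E8_80 : (List.range' 80 5).all (checkOppAt chevE8) = true := by
  decide +kernel

set_option maxRecDepth 1000000 in
theorem chkOpp_E8_85 : (List.range' 85 5).all (checkOppAt chevE8) = true := by
  decide +kernel

set_option maxRecDepth 1000000 in
theorem chkOpp_E8_90 : (List.range' 90 5).all (checkOppAt chevE8) = true := by
  decide +kernel

set_option maxRecDepth 1000000 in
theorem chkOpp_E8_95 : (List.range' 95 5).all (checkOppAt chevE8) = true := by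
  decide +kernel

set_option maxRecDepth 1000000 in
theorem chkOpp_E8_100 : (List.range' 100 5).all (checkOppAt chevE8) = true := by
  decide +kernel

set_option maxRecDepth 1000000 in
theorem chkOpp_E8_105 : (List.range' 105 5).all (checkOppAt chevE8) = true := by
  decide +kernel

set_option maxRecDepth 1000000 in
theorem chkOpp_E8_110 : (List.range' 110 5).all (checkOppAt chevE8) = true := by
  decide +kernel

set_option maxRecDepth 1000000 in
theorem chkOpp_E8_115 : (List.range' 115 5).all (checkOppAt chevE8) = true := by
  decide +kernel

end Cfsg.Agent.Lib.Helper5.ChevSym
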