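import Mathlib
import Cfsg.Prelude.Def_ChevE8
import Cfsg.Agent.Lib.Helper5.StPres.OppDef

set_option autoImplicit false

namespace Cfsg.Agent.Lib.Helper5.ChevSym

open Cfsg Cfsg.Lie

set_option maxRecDepth 1000000 in
theorem chkOpp_E8_180 : (List.range' 180 5).all (checkOppAt chevE8) = true := by
  decide +kernel

set_option maxRecDepth 1000000 in
theorem chkOpp_E8_185 : (List.range' 185 5).all (checkOppAt chevE8) = true := by
  decide +kernel

set_option maxRecDepth 1000000 in
theorem chkOpp_E8_190 : (List.range' 190 5).all (checkOppAt chevE8) = true := by
  decide +kernel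

set_option maxRecDepth 1000000 in
theorem chkOpp_E8_195 : (List.range' 195 5).all (checkOppAt chevE8) = true := by
  decide +kernel

set_option maxRecDepth 1000000 in
theorem chkOpp_E8_200 : (List.range' 200 5).all (checkOppAt chevE8) = true := by
  decide +kernel

set_option maxRecDepth 1000000 in
theorem chkOpp_E8_205 : (List.range' 205 5).all (checkOppAt chevE8) = true := by
  decide +kernel

set_option maxRecDepth 1000000 in
theorem chkOpp_E8_210 : (List.range' 210 5).all (checkOppAt chevE8) = true := by
  decide +kernel

set_option maxRecDepth 1000000 in
theorem chkOpp_E8_215 : (List.range' 215 5).all (checkOppAt chevE8) = true := by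
  decide +kernel

set_option maxRecDepth 1000000 in
theorem chkOpp_E8_220 : (List.range' 220 5).all (checkOppAt chevE8) = true := by
  decide +kernel

set_option maxRecDepth 1000000 in
theorem chkOpp_E8_225 : (List.range' 225 5).all (checkOppAt chevE8) = true := by
  decide +kernel

set_option maxRecDepth 1000000 in
theorem chkOpp_E8_230 : (List.range' 230 5).all (checkOppAt chevE8) = true := by
  decide +kernel

set_option maxRecDepth 1000000 in
theorem chkOpp_E8_235 : (List.range' 235 5).all (checkOppAt chevE8) = true := by
  decide +kernel

end Cfsg.Agent.Lib.Helper5.ChevSym
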