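import Mathlib
import Cfsg.Agent.Lib.Helper5.StPres.Chk.OppG2
import Cfsg.Agent.Lib.Helper5.StPres.Chk.OppB2
import Cfsg.Agent.Lib.Helper5.StPres.Chk.OppD4
import Cfsg.Agent.Lib.Helper5.StPres.Chk.OppF4
import Cfsg.Agent.Lib.Helper5.StPres.Chk.OppE6
import Cfsg.Agent.Lib.Helper5.StPres.Chk.OppE7_0
import Cfsg.Agent.Lib.Helper5.StPres.Chk.OppE7_1
import Cfsg.Agent.Lib.Helper5.StPres.Chk.OppE8_0
import Cfsg.Agent.Lib.Helper5.StPres.Chk.OppE8_1
import Cfsg.Agent.Lib.Helper5.StPres.Chk.OppE8_2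
import Cfsg.Agent.Lib.Helper5.StPres.Chk.OppE8_3

set_option autoImplicit false

namespace Cfsg.Agent.Lib.Helper5.ChevSym

open Cfsg Cfsg.Lie

theorem all_range'_spec (f : ℕ → Bool) (a l : ℕ) (h : (List.range' a l).all f = true) (r : ℕ)
    (h1 : a ≤ r) (h2 : r < a + l) : f r = true := by
  rw [List.all_eq_true] at h
  apply h
  rw [List.mem_range'_1]
  exact ⟨h1, h2⟩

theorem chkOpp_all (D : ChevalleyDatum)
    (hD : D ∈ [chevG2, chevB2, chevD4, chevF4, chevE6, chevE7, chevE8]) (r : ℕ)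
    (hr : r < D.nroots) : checkOppAt D r = true := by
  simp only [List.mem_cons, List.not_mem_nil, or_false] at hD
  rcases hD with rfl | rfl | rfl | rfl | rfl | rfl | rfl
  · exact all_range'_spec _ _ _ chkOpp_G2_0 r (by omega) (by have : r < 12 := hr; omega)
  · exact all_range'_spec _ _ _ chkOpp_B2_0 r (by omega) (by have : r < 8 := hr; omega)
  · exact all_range'_spec _ _ _ chkOpp_D4_0 r (by omega) (by have : r < 24 := hr; omega)
  · exact all_range'_spec _ _ _ chkOpp_F4_0 r (by omega) (by have : r < 48 := hr; omega)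
  · have hr' : r < 72 := hr
    by_cases h : r < 36
    · exact all_range'_spec _ _ _ chkOpp_E6_0 r (by omega) (by omega)
    · exact all_range'_spec _ _ _ chkOpp_E6_36 r (by omega) (by omega)
  · have hr' : r < 126 := hr
    have hall : ∀ k < 6, (List.range' (21 * k) 21).all (checkOppAt chevE7) = true := by
      intro k hk
      interval_cases k
      exacts [
        chkOpp_E7_0, chkOpp_E7_21, chkOpp_E7_42, chkOpp_E7_63, chkOpp_E7_84, chkOpp_E7_105]
    exact all_range'_spec _ _ _ (hall (r / 21) (by omega)) r (by omega) (by omega)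
  · have hr' : r < 240 := hr
    have hall : ∀ k < 48, (List.range' (5 * k) 5).all (checkOppAt chevE8) = true := by
      intro k hk
      interval_cases k
      exacts [
        chkOpp_E8_0, chkOpp_E8_5, chkOpp_E8_10, chkOpp_E8_15, chkOpp_E8_20, chkOpp_E8_25,
        chkOpp_E8_30, chkOpp_E8_35, chkOpp_E8_40, chkOpp_E8_45, chkOpp_E8_50, chkOpp_E8_55,
        chkOpp_E8_60, chkOpp_E8_65, chkOpp_E8_70, chkOpp_E8_75, chkOpp_E8_80, chkOpp_E8_85,
        chkOpp_E8_90, chkOpp_E8_95, chkOpp_E8_100, chkOpp_E8_105, chkOpp_E8_110, chkOpp_E8_115,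
        chkOpp_E8_120, chkOpp_E8_125, chkOpp_E8_130, chkOpp_E8_135, chkOpp_E8_140,
        chkOpp_E8_145, chkOpp_E8_150, chkOpp_E8_155, chkOpp_E8_160, chkOpp_E8_165,
        chkOpp_E8_170, chkOpp_E8_175, chkOpp_E8_180, chkOpp_E8_185, chkOpp_E8_190,
        chkOpp_E8_195, chkOpp_E8_200, chkOpp_E8_205, chkOpp_E8_210, chkOpp_E8_215,
        chkOpp_E8_220, chkOpp_E8_225, chkOpp_E8_230, chkOpp_E8_235]
    exact all_range'_spec _ _ _ (hall (r / 5) (by omega)) r (by omega) (by omega)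

end Cfsg.Agent.Lib.Helper5.ChevSym
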