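import Mathlib
import Cfsg.Prelude.Def_ChevE8
import Cfsg.Agent.Lib.Helper5.StPres.OppDef

set_option autoImplicit false

namespace Cfsg.Agent.Lib.Helper5.ChevSym

open Cfsg Cfsg.Lie

set_option maxRecDepth 1000000 in
theorem chkOpp_E8_120 : (List.range' 120 5).all (checkOppAt chevE8) = true := by
  decide +kernel

set_option maxRecDepth 1000000 in
theorem chkOpp_E8_125 : (List.range' 125 5).all (checkOppAt chevE8) = true := by
  decide +kernel

set_option maxRecDepth 1000000 in
theorem chkOpp_E8_130 : (List.range' 130 5).all (checkOppAt chevE8) = true := by
  decide +kernel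

set_option maxRecDepth 1000000 in
theorem chkOpp_E8_135 : (List.range' 135 5).all (checkOppAt chevE8) = true := by
  decide +kernel

set_option maxRecDepth 1000000 in
theorem chkOpp_E8_140 : (List.range' 140 5).all (checkOppAt chevE8) = true := by
  decide +kernel

set_option maxRecDepth 1000000 in
theorem chkOpp_E8_145 : (List.range' 145 5).all (checkOppAt chevE8) = true := by
  decide +kernel

set_option maxRecDepth 1000000 in
theorem chkOpp_E8_150 : (List.range' 150 5).all (checkOppAt chevE8) = true := by
  decide +kernel

set_option maxRecDepth 1000000 in
theorem chkOpp_E8_155 : (List.range' 155 5).all (checkOppAt chevE8) = true := by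
  decide +kernel

set_option maxRecDepth 1000000 in
theorem chkOpp_E8_160 : (List.range' 160 5).all (checkOppAt chevE8) = true := by
  decide +kernel

set_option maxRecDepth 1000000 in
theorem chkOpp_E8_165 : (List.range' 165 5).all (checkOppAt chevE8) = true := by
  decide +kernel

set_option maxRecDepth 1000000 in
theorem chkOpp_E8_170 : (List.range' 170 5).all (checkOppAt chevE8) = true := by
  decide +kernel

set_option maxRecDepth 1000000 in
theorem chkOpp_E8_175 : (List.range' 175 5).all (checkOppAt chevE8) = true := by
  decide +kernel

end Cfsg.Agent.Lib.Helper5.ChevSym
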